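import Cfsg.Agent.H470.EPK.ParOfVJ
import Cfsg.Agent.H839.EP.AltFrame
import Cfsg.Agent.KFacts.RgdLieCharP

/-!
# The parabolic step for extremely primitive groups (helper833, task 6155)

`A` a maximal subgroup with `EPT A Γ`, `N ≤ A` a `Γ`-invariant simple group with a filtered root group datum of
characteristic `p`, `U` a Sylow `p`-subgroup of `N` and `x ∉ A` with `U ≤ A^x`. Then `N_N(U) ≤ A^x`
(`normalizer_le_cj`).
-/

set_option autoImplicit false
set_option linter.unusedSectionVars false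

namespace Cfsg.Agent.H833.TenFive

open CoxeterSystem Cfsg.Agent.ChevalleyStructure.CoxeterGeom Cfsg.Agent.Tits.Roots Cfsg.Agent.Tits.Core
  Cfsg.Agent.Tits.RootComb Cfsg.Agent.Tits.Exchange Cfsg.Agent.Nodes.Reps Cfsg.Agent.Nodes.BNOf
  Cfsg.Agent.Nodes.StabComb Cfsg.Agent.Nodes.Bruhat Cfsg.Agent.Nodes.OppDec Cfsg.Agent.Nodes.LeviDec
  Cfsg.Agent.Nodes.Coroot Cfsg.Agent.KFacts.RgdPar Cfsg.Agent.KFacts.RgdSL Cfsg.Agent.KFacts.RgdVJ
  Cfsg.Agent.KFacts.RgdCharP Cfsg.Agent.KFacts.RgdFilt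

/-- `S` is a maximal `p`-subgroup -/
def MaxP {G : Type*} [Group G] (p : ℕ) (S : Subgroup G) : Prop :=
  IsPGroup p S ∧ ∀ P : Subgroup G, IsPGroup p P → S ≤ P → P = S

section

variable {G : Type*} [Group G] {p : ℕ}

theorem MaxP.exists_sylow {S : Subgroup G} (hS : MaxP p S) : ∃ P : Sylow p G, (P : Subgroup G) = S :=
  ⟨⟨S, hS.1, fun h1 h2 => hS.2 _ h1 h2⟩, rfl⟩

theorem maxP_of_sylow (P : Sylow p G) : MaxP p (P : Subgroup G) :=
  ⟨P.2, fun _ h1 h2 => P.3 h1 h2⟩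

theorem MaxP.cj {S : Subgroup G} (hS : MaxP p S) (g : G) : MaxP p (cj g S) := by
  refine ⟨hS.1.map _, fun P hP h1 => ?_⟩
  have h2 := hS.2 (Nodes.Reps.cj g⁻¹ P) (hP.map _) (by
    have := cj_mono g⁻¹ h1
    rwa [cj_inv_cj] at this)
  rw [← h2, cj_cj_inv]

theorem MaxP.conj_in [Finite G] [Fact p.Prime] {S S' K : Subgroup G} (hS : MaxP p S) (hS' : MaxP p S') (h : S ≤ K)
    (h' : S' ≤ K) : ∃ k ∈ K, S' = Nodes.Reps.cj k S := by
  have key : ∀ {T : Subgroup G}, MaxP p T → T ≤ K → ∃ P : Sylow p K, (P : Subgroup K) = T.subgroupOf K := by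
    intro T hT hTK
    refine ⟨⟨T.subgroupOf K, hT.1.comap_subtype, fun {Q} h1 h2 => ?_⟩, rfl⟩
    have h3 := hT.2 (Q.map K.subtype) (h1.map _) (by
      have := Subgroup.map_mono (f := K.subtype) h2
      rwa [Subgroup.subgroupOf_map_subtype, inf_eq_left.2 hTK] at this)
    rw [← h3]
    ext y
    rw [Subgroup.mem_subgroupOf]
    exact (Subgroup.mem_map_iff_mem K.subtype_injective).symm
  obtain ⟨P, hP⟩ := key hS h
  obtain ⟨P', hP'⟩ := key hS' h'
  obtain ⟨k, hk⟩ := MulAction.exists_smul_eq K P P'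
  refine ⟨k, k.2, ?_⟩
  have h1 : (P' : Subgroup K) = (P : Subgroup K).map (MulAut.conj k).toMonoidHom := by
    rw [← hk]; rfl
  rw [hP, hP'] at h1
  have h2 := congrArg (Subgroup.map K.subtype) h1
  rw [Subgroup.subgroupOf_map_subtype, inf_eq_left.2 h', Subgroup.map_map] at h2
  rw [h2]
  ext y
  constructor
  · rintro ⟨a, ha, rfl⟩
    exact ⟨a, ha, rfl⟩
  · rintro ⟨a, ha, rfl⟩
    exact ⟨⟨a, h ha⟩, ha, rfl⟩

end

/-- the parabolic step inside `N` -/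
theorem exists_par {N : Type*} [Group N] [Finite N] [IsSimpleGroup N] {p : ℕ} [Fact p.Prime] (hN : HasFilt p N)
    (hc : ∃ a b : N, a * b ≠ b * a) {K U : Subgroup N} (hK : K ≠ ⊤) (hU : MaxP p U) (hUK : U ≤ K) :
    U ≠ ⊥ ∧ ∃ P : Subgroup N, P ≠ ⊤ ∧ K ≤ P ∧ (∀ φ : MulAut N, (∀ k ∈ K, φ k ∈ K) → ∀ x ∈ P, φ x ∈ P) ∧
      (P ≤ K → ∀ g : N, (∀ u ∈ U, g * u * g⁻¹ ∈ U) → g ∈ K) := by
  obtain ⟨l, M, A, h, T, n, X, R, hW, hBT, hGG, -, hconn, hX, hl⟩ := hN.data hc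
  have hP0 : MaxP p (RGD.Sup X (RGD.Pos M.toCoxeterSystem h)) := by
    refine ⟨R.isPGroup_Upos, fun P hP h1 => ?_⟩
    exact KFacts.RgdEx.eq_U R h1 (by rw [hGG]; exact le_top) hP
  obtain ⟨g, -, hg⟩ := MaxP.conj_in (K := ⊤) hP0 hU le_top le_top
  have hV : cj g (VJ M.toCoxeterSystem h X ∅) ≤ K := by
    unfold VJ
    rw [H470.EPK.NotJ_empty, ← hg]
    exact hUK
  have hne : (∅ : Set (Fin l)) ≠ Set.univ := by
    intro h1
    have : (⟨0, hl⟩ : Fin l) ∈ (∅ : Set (Fin l)) := by rw [h1]; trivial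
    exact this
  obtain ⟨J, g', hJ, h1, h2⟩ := H470.EPK.par_of_VJ R hBT hGG hX hconn hK hne hV
  have hUb : U ≠ ⊥ := by
    intro h3
    have h4 : RGD.Sup X (RGD.Pos M.toCoxeterSystem h) = ⊥ := by
      rw [← cj_inv_cj g (RGD.Sup X (RGD.Pos M.toCoxeterSystem h)), ← hg, h3]
      exact Subgroup.map_bot _
    have h5 : X (sr ⟨0, hl⟩) ≤ RGD.Sup X (RGD.Pos M.toCoxeterSystem h) :=
      RGD.le_Sup ⟨isRoot_sr M.toCoxeterSystem h ⟨0, hl⟩, sr_nonneg _⟩
    exact X_ne_bot R (isRoot_sr M.toCoxeterSystem h ⟨0, hl⟩) (le_bot_iff.1 (h4 ▸ h5))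
  refine ⟨hUb, cj g' (PJ M.toCoxeterSystem h T X J), ?_, h1, h2, ?_⟩
  · intro h3
    have hP : PJ M.toCoxeterSystem h T X J = Subgroup.normalizer (VJ M.toCoxeterSystem h X J : Set N) := by
      apply le_antisymm (PJ_le_normalizer_VJ R J)
      have h3 := normalizer_VJ R J
      rw [hGG, inf_top_eq] at h3
      exact h3.le
    have h4 : Subgroup.normalizer (VJ M.toCoxeterSystem h X J : Set N) = ⊤ := by
      rw [← hP, ← cj_inv_cj g' (PJ M.toCoxeterSystem h T X J), h3, eq_top_iff]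
      intro y _
      rw [mem_cj]
      trivial
    have h5 := Subgroup.normalizer_eq_top_iff.1 h4
    rcases h5.eq_bot_or_eq_top with h6 | h6
    · obtain ⟨i, hi⟩ : ∃ i, i ∉ J := by
        by_contra hcon
        push Not at hcon
        exact hJ (Set.eq_univ_of_forall hcon)
      have h7 : X (sr i) ≤ VJ M.toCoxeterSystem h X J := RGD.le_Sup (sr_mem_NotJ hi)
      exact X_ne_bot R (isRoot_sr M.toCoxeterSystem h i) (le_bot_iff.1 (h6 ▸ h7))
    · have h7 : IsPGroup p (⊤ : Subgroup N) := h6 ▸ isPGroup_VJ R J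
      have h8 : IsPGroup p N := h7.of_equiv Subgroup.topEquiv
      have h9 := h8.center_nontrivial
      rw [KFacts.RgdLieCharP.center_eq_bot hc] at h9
      exact not_nontrivial _ h9
  · intro hPK y hy
    have hUP : cj g' (RGD.Sup X (RGD.Pos M.toCoxeterSystem h)) ≤ K := by
      refine le_trans (cj_mono g' ?_) hPK
      exact le_trans (RGD.Sup_le fun x hx => RGD.X_le_B hx.1 hx.2) B_le_PJ
    obtain ⟨k, hk, e⟩ := MaxP.conj_in (hP0.cj g') hU hUP hUK
    have h3 : y ∈ Subgroup.normalizer (U : Set N) := by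
      rw [mem_normalizer_iff_cj]
      apply Subgroup.eq_of_le_of_card_ge
      · rintro _ ⟨u, hu, rfl⟩
        exact hy u hu
      · unfold cj
        rw [Subgroup.card_map_of_injective (MulAut.conj y).injective]
    rw [e, ← cj_mul, Nodes.NormX.normalizer_cj, KFacts.RgdAut.normalizer_U' R hGG] at h3
    have h4 : cj (k * g') (RGD.B M.toCoxeterSystem h T X) ≤ K := by
      rw [cj_mul]
      have h5 : cj g' (RGD.B M.toCoxeterSystem h T X) ≤ K := le_trans (cj_mono g' B_le_PJ) hPK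
      have h6 := cj_mono k h5
      rwa [cj_eq_of_mem hk] at h6
    exact h4 h3

/-- **The parabolic step** (H). -/
theorem normalizer_le_cj {Q : Type*} [Group Q] [Finite Q] {A : Subgroup Q} {Γ : Subgroup (MulAut Q)}
    (h : H284.EPT A Γ) {N : Subgroup Q} (hNs : IsSimpleGroup N) (hNA : N ≤ A) (hNΓ : ∀ σ ∈ Γ, ∀ k ∈ N, σ k ∈ N)
    {p : ℕ} [Fact p.Prime] (hN : HasFilt p N) (hc : ∃ a b : N, a * b ≠ b * a) {U : Subgroup N} (hU : MaxP p U)
    {x : Q} (hx : x ∉ A) (hUx : U.map N.subtype ≤ H284.cj x A) {g : N} (hg : ∀ u ∈ U, g * u * g⁻¹ ∈ U) :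
    (g : Q) ∈ H284.cj x A := by
  set K : Subgroup N := (H284.cj x A).subgroupOf N with hKd
  have hNb : N ≠ ⊥ := by
    intro e
    obtain ⟨a, b, hab⟩ := hc
    apply hab
    apply Subtype.ext
    have ha : (a : Q) = 1 := (Subgroup.eq_bot_iff_forall _).1 e a a.2
    have hb : (b : Q) = 1 := (Subgroup.eq_bot_iff_forall _).1 e b b.2
    show (a : Q) * b = b * a
    rw [ha, hb]
  have hK : K ≠ ⊤ := by
    intro e
    apply hNb
    refine h.F1 x hx N hNA hNΓ ?_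
    rwa [hKd, Subgroup.subgroupOf_eq_top] at e
  have hUK : U ≤ K := fun u hu => hUx ⟨u, hu, rfl⟩
  obtain ⟨hUb, P, hP1, hP2, hP3, hP4⟩ := exists_par hN hc hK hU hUK
  refine hP4 ?_ g hg
  -- the restriction of `σ ∈ Γ` to `N`
  have hres : ∀ σ ∈ Γ, ∃ φ : MulAut N, ∀ k : N, (φ k : Q) = σ k := by
    intro σ hσ
    refine ⟨⟨⟨fun k => ⟨σ k, hNΓ σ hσ k k.2⟩, fun k => ⟨σ⁻¹ k, hNΓ _ (Γ.inv_mem hσ) k k.2⟩, ?_, ?_⟩, ?_⟩,
      fun k => rfl⟩
    · intro k
      apply Subtype.ext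
      exact MulAut.inv_apply_self Q σ k
    · intro k
      apply Subtype.ext
      exact MulAut.apply_inv_self Q σ k
    · intro k l
      apply Subtype.ext
      exact map_mul σ (k : Q) l
  let L : Subgroup (MulAut Q) :=
    { carrier := {σ | σ ∈ Γ ∧ ∀ k ∈ P.map N.subtype, σ k ∈ P.map N.subtype}
      one_mem' := ⟨Γ.one_mem, fun k hk => hk⟩
      mul_mem' := fun {a b} ha hb => ⟨Γ.mul_mem ha.1 hb.1, fun k hk => ha.2 _ (hb.2 k hk)⟩
      inv_mem' := by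
        intro a ha
        refine ⟨Γ.inv_mem ha.1, fun k hk => ?_⟩
        have h1 : (P.map N.subtype).map a.toMonoidHom = P.map N.subtype := by
          apply Subgroup.eq_of_le_of_card_ge
          · rintro _ ⟨u, hu, rfl⟩
            exact ha.2 u hu
          · exact (Nat.card_congr ((P.map N.subtype).equivMapOfInjective a.toMonoidHom a.injective).toEquiv).le
        rw [← h1] at hk
        obtain ⟨u, hu, rfl⟩ := hk
        have : a⁻¹ (a.toMonoidHom u) = u := MulAut.inv_apply_self Q a u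
        rw [this]
        exact hu }
  have hLΓ : L ≤ Γ := fun σ hσ => hσ.1
  have hxL : ∀ σ ∈ Γ, x⁻¹ * σ x ∈ A → σ ∈ L := by
    intro σ hσ hσx
    refine ⟨hσ, ?_⟩
    obtain ⟨φ, hφ⟩ := hres σ hσ
    have hφK : ∀ k ∈ K, φ k ∈ K := by
      intro k hk
      rw [hKd, Subgroup.mem_subgroupOf, H284.mem_cj] at hk ⊢
      rw [hφ]
      have e1 : x⁻¹ * σ k * x = (x⁻¹ * σ x) * σ (x⁻¹ * k * x) * (x⁻¹ * σ x)⁻¹ := by
        rw [map_mul, map_mul, map_inv]
        group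
      rw [e1]
      exact A.mul_mem (A.mul_mem hσx ((h.inv σ hσ _).2 hk)) (A.inv_mem hσx)
    rintro _ ⟨k, hk, rfl⟩
    exact ⟨φ k, hP3 φ hφK k hk, hφ k⟩
  rcases h.two x hx L hLΓ hxL with h1 | h1
  · exfalso
    have hPn : P.Normal := by
      refine ⟨fun k hk a => ?_⟩
      have h2 : MulAut.conj (a : Q) ∈ L := by
        rw [h1]
        exact (h.conj a).2 (hNA a.2)
      obtain ⟨k', hk', e⟩ := h2.2 k ⟨k, hk, rfl⟩
      have e2 : k' = a * k * a⁻¹ := Subtype.ext e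
      rw [← e2]
      exact hk'
    rcases hPn.eq_bot_or_eq_top with h2 | h2
    · exact hUb (le_bot_iff.1 (h2 ▸ hUK.trans hP2))
    · exact hP1 h2
  · intro y hy
    rw [hKd, Subgroup.mem_subgroupOf, H284.mem_cj]
    have hyA : (y : Q) ∈ A := hNA y.2
    have h2 := h1 (MulAut.conj (y : Q)) ⟨(h.conj _).2 hyA, by
      rintro _ ⟨k, hk, rfl⟩
      exact ⟨y * k * y⁻¹, P.mul_mem (P.mul_mem hy hk) (P.inv_mem hy), rfl⟩⟩
    have e1 : x⁻¹ * y * x = (x⁻¹ * MulAut.conj (y : Q) x) * y := by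
      rw [MulAut.conj_apply]
      group
    rw [e1]
    exact A.mul_mem h2 hyA

end Cfsg.Agent.H833.TenFive
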