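import Cfsg.Agent.H833.TenFive.Par

/-!
# The parabolic step with a given root group datum (helper833, task 6155)

* `par_le` : `A^x ∩ N` is the parabolic subgroup found by Borel–Tits (maximality of the stabiliser);
* `exists_sylow_cj` : `V_J ≤ A^x ∩ N` implies `V_J ≤ U^g ≤ A^x` for some `g ∈ N`.
-/

set_option autoImplicit false
set_option linter.unusedSectionVars false

namespace Cfsg.Agent.H833.TenFive

open CoxeterSystem Cfsg.Agent.ChevalleyStructure.CoxeterGeom Cfsg.Agent.Tits.Roots Cfsg.Agent.Tits.Core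
  Cfsg.Agent.Tits.RootComb Cfsg.Agent.Tits.Exchange Cfsg.Agent.Nodes.Reps Cfsg.Agent.Nodes.BNOf
  Cfsg.Agent.Nodes.StabComb Cfsg.Agent.Nodes.Bruhat Cfsg.Agent.Nodes.OppDec Cfsg.Agent.Nodes.LeviDec
  Cfsg.Agent.Nodes.Coroot Cfsg.Agent.KFacts.RgdPar Cfsg.Agent.KFacts.RgdSL Cfsg.Agent.KFacts.RgdVJ
  Cfsg.Agent.KFacts.RgdCharP Cfsg.Agent.KFacts.RgdFilt

/-- a `p`-subgroup lies in a conjugate of a Sylow subgroup -/
theorem MaxP.exists_ge {G : Type*} [Group G] [Finite G] {p : ℕ} [Fact p.Prime] {S V K : Subgroup G} (hS : MaxP p S)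
    (hSK : S ≤ K) (hV : IsPGroup p V) (hVK : V ≤ K) : ∃ k ∈ K, V ≤ Nodes.Reps.cj k S := by
  have key : ∃ P : Sylow p K, (P : Subgroup K) = S.subgroupOf K := by
    refine ⟨⟨S.subgroupOf K, hS.1.comap_subtype, fun {Q} h1 h2 => ?_⟩, rfl⟩
    have h3 := hS.2 (Q.map K.subtype) (h1.map _) (by
      have := Subgroup.map_mono (f := K.subtype) h2
      rwa [Subgroup.subgroupOf_map_subtype, inf_eq_left.2 hSK] at this)
    rw [← h3]
    ext y
    rw [Subgroup.mem_subgroupOf]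
    exact (Subgroup.mem_map_iff_mem K.subtype_injective).symm
  obtain ⟨P, hP⟩ := key
  obtain ⟨P', hP'⟩ := (hV.comap_subtype (K := K)).exists_le_sylow
  obtain ⟨k, hk⟩ := MulAction.exists_smul_eq K P P'
  refine ⟨k, k.2, ?_⟩
  have h1 : (P' : Subgroup K) = (P : Subgroup K).map (MulAut.conj k).toMonoidHom := by
    rw [← hk]; rfl
  intro y hy
  have h2 : (⟨y, hVK hy⟩ : K) ∈ (P' : Subgroup K) := hP' (show (⟨y, hVK hy⟩ : K) ∈ V.subgroupOf K from hy)
  rw [h1, hP] at h2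
  obtain ⟨a, ha, e⟩ := h2
  exact ⟨a, ha, congrArg Subtype.val e⟩

section ept

variable {Q : Type*} [Group Q] [Finite Q] {A : Subgroup Q} {Γ : Subgroup (MulAut Q)}

/-- `A^x ∩ N` is parabolic -/
theorem par_le (h : H284.EPT A Γ) {N : Subgroup Q} (hNs : IsSimpleGroup N) (hNA : N ≤ A)
    (hNΓ : ∀ σ ∈ Γ, ∀ k ∈ N, σ k ∈ N) {x : Q} (hx : x ∉ A) {P : Subgroup N} (hP0 : P ≠ ⊥) (hP1 : P ≠ ⊤)
    (hP3 : ∀ φ : MulAut N, (∀ k ∈ (H284.cj x A).subgroupOf N, φ k ∈ (H284.cj x A).subgroupOf N) →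
      ∀ x ∈ P, φ x ∈ P) : P ≤ (H284.cj x A).subgroupOf N := by
  set K : Subgroup N := (H284.cj x A).subgroupOf N with hKd
  -- the restriction of `σ ∈ Γ` to `N`
  have hres : ∀ σ ∈ Γ, ∃ φ : MulAut N, ∀ k : N, (φ k : Q) = σ k := by
    intro σ hσ
    refine ⟨⟨⟨fun k => ⟨σ k, hNΓ σ hσ k k.2⟩, fun k => ⟨σ⁻¹ k, hNΓ _ (Γ.inv_mem hσ) k k.2⟩, ?_, ?_⟩, ?_⟩,
      fun k => rfl⟩
    · intro k
      apply Subtype.ext
      exact MulAut.inv_apply_self Q σ k
    · intro k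
      apply Subtype.ext
      exact MulAut.apply_inv_self Q σ k
    · intro k l
      apply Subtype.ext
      exact map_mul σ (k : Q) l
  let L : Subgroup (MulAut Q) :=
    { carrier := {σ | σ ∈ Γ ∧ ∀ k ∈ P.map N.subtype, σ k ∈ P.map N.subtype}
      one_mem' := ⟨Γ.one_mem, fun k hk => hk⟩
      mul_mem' := fun {a b} ha hb => ⟨Γ.mul_mem ha.1 hb.1, fun k hk => ha.2 _ (hb.2 k hk)⟩
      inv_mem' := by
        intro a ha
        refine ⟨Γ.inv_mem ha.1, fun k hk => ?_⟩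
        have h1 : (P.map N.subtype).map a.toMonoidHom = P.map N.subtype := by
          apply Subgroup.eq_of_le_of_card_ge
          · rintro _ ⟨u, hu, rfl⟩
            exact ha.2 u hu
          · exact (Nat.card_congr ((P.map N.subtype).equivMapOfInjective a.toMonoidHom a.injective).toEquiv).le
        rw [← h1] at hk
        obtain ⟨u, hu, rfl⟩ := hk
        have : a⁻¹ (a.toMonoidHom u) = u := MulAut.inv_apply_self Q a u
        rw [this]
        exact hu }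
  have hLΓ : L ≤ Γ := fun σ hσ => hσ.1
  have hxL : ∀ σ ∈ Γ, x⁻¹ * σ x ∈ A → σ ∈ L := by
    intro σ hσ hσx
    refine ⟨hσ, ?_⟩
    obtain ⟨φ, hφ⟩ := hres σ hσ
    have hφK : ∀ k ∈ K, φ k ∈ K := by
      intro k hk
      rw [hKd, Subgroup.mem_subgroupOf, H284.mem_cj] at hk ⊢
      rw [hφ]
      have e1 : x⁻¹ * σ k * x = (x⁻¹ * σ x) * σ (x⁻¹ * k * x) * (x⁻¹ * σ x)⁻¹ := by
        rw [map_mul, map_mul, map_inv]
        group
      rw [e1]
      exact A.mul_mem (A.mul_mem hσx ((h.inv σ hσ _).2 hk)) (A.inv_mem hσx)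
    rintro _ ⟨k, hk, rfl⟩
    exact ⟨φ k, hP3 φ hφK k hk, hφ k⟩
  rcases h.two x hx L hLΓ hxL with h1 | h1
  · exfalso
    have hPn : P.Normal := by
      refine ⟨fun k hk a => ?_⟩
      have h2 : MulAut.conj (a : Q) ∈ L := by
        rw [h1]
        exact (h.conj a).2 (hNA a.2)
      obtain ⟨k', hk', e⟩ := h2.2 k ⟨k, hk, rfl⟩
      have e2 : k' = a * k * a⁻¹ := Subtype.ext e
      rw [← e2]
      exact hk'
    rcases hPn.eq_bot_or_eq_top with h2 | h2
    · exact hP0 h2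
    · exact hP1 h2
  · intro y hy
    rw [hKd, Subgroup.mem_subgroupOf, H284.mem_cj]
    have hyA : (y : Q) ∈ A := hNA y.2
    have h2 := h1 (MulAut.conj (y : Q)) ⟨(h.conj _).2 hyA, by
      rintro _ ⟨k, hk, rfl⟩
      exact ⟨y * k * y⁻¹, P.mul_mem (P.mul_mem hy hk) (P.inv_mem hy), rfl⟩⟩
    have e1 : x⁻¹ * y * x = (x⁻¹ * MulAut.conj (y : Q) x) * y := by
      rw [MulAut.conj_apply]
      group
    rw [e1]
    exact A.mul_mem h2 hyA

variable {I W : Type*} [Fintype I] [DecidableEq I] [Group W] {M : CoxeterMatrix I}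
  {cs : CoxeterSystem M W} {C : I → I → ℤ} {hC : IsCartan M C} {p : ℕ} {N : Subgroup Q} {T : Subgroup N} {n : I → N}
  {X : (I → ℤ) → Subgroup N}

/-- **Borel–Tits for the stabilisers of two points.** -/
theorem exists_sylow_cj (h : H284.EPT A Γ) (hNs : IsSimpleGroup N) (hNA : N ≤ A)
    (hNΓ : ∀ σ ∈ Γ, ∀ k ∈ N, σ k ∈ N) (hc : ∃ a b : N, a * b ≠ b * a) [Fact p.Prime] [Finite W]
    (R : RGD cs hC p T n X) (hBT : BT cs hC p T X) (hGG : GG cs hC T X = ⊤)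
    (hX : RGD.Sup X {x | IsRoot cs hC x} = ⊤) (hconn : Conn M) {J : Set I} (hJ : J ≠ Set.univ) {g : N} {x : Q}
    (hx : x ∉ A) (hV : Nodes.Reps.cj g (VJ cs hC X J) ≤ (H284.cj x A).subgroupOf N) :
    ∃ g' : N, Nodes.Reps.cj g (VJ cs hC X J) ≤ Nodes.Reps.cj g' (RGD.Sup X (RGD.Pos cs hC)) ∧
      Nodes.Reps.cj g' (RGD.Sup X (RGD.Pos cs hC)) ≤ (H284.cj x A).subgroupOf N := by
  have hVne : ∀ {J : Set I}, J ≠ Set.univ → VJ cs hC X J ≠ ⊥ := by
    intro J hJ e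
    obtain ⟨i, hi⟩ : ∃ i, i ∉ J := by
      by_contra hcon
      push Not at hcon
      exact hJ (Set.eq_univ_of_forall hcon)
    have h7 : X (sr i) ≤ VJ cs hC X J := RGD.le_Sup (sr_mem_NotJ hi)
    exact X_ne_bot R (isRoot_sr cs hC i) (le_bot_iff.1 (e ▸ h7))
  have hNb : N ≠ ⊥ := by
    intro e
    obtain ⟨a, b, hab⟩ := hc
    apply hab
    apply Subtype.ext
    have ha : (a : Q) = 1 := (Subgroup.eq_bot_iff_forall _).1 e a a.2
    have hb : (b : Q) = 1 := (Subgroup.eq_bot_iff_forall _).1 e b b.2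
    show (a : Q) * b = b * a
    rw [ha, hb]
  have hK : (H284.cj x A).subgroupOf N ≠ ⊤ := by
    intro e
    apply hNb
    refine h.F1 x hx N hNA hNΓ ?_
    rwa [Subgroup.subgroupOf_eq_top] at e
  obtain ⟨J', g', hJ', h1, h2⟩ := H470.EPK.par_of_VJ R hBT hGG hX hconn hK hJ hV
  have hP1 : Nodes.Reps.cj g' (PJ cs hC T X J') ≠ ⊤ := by
    intro h3
    have hP : PJ cs hC T X J' = Subgroup.normalizer (VJ cs hC X J' : Set N) := by
      apply le_antisymm (PJ_le_normalizer_VJ R J')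
      have h3 := normalizer_VJ R J'
      rw [hGG, inf_top_eq] at h3
      exact h3.le
    have h4 : Subgroup.normalizer (VJ cs hC X J' : Set N) = ⊤ := by
      rw [← hP, ← cj_inv_cj g' (PJ cs hC T X J'), h3, eq_top_iff]
      intro y _
      rw [mem_cj]
      trivial
    have h5 := Subgroup.normalizer_eq_top_iff.1 h4
    rcases h5.eq_bot_or_eq_top with h6 | h6
    · exact hVne hJ' h6
    · have h7 : IsPGroup p (⊤ : Subgroup N) := h6 ▸ isPGroup_VJ R J'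
      have h8 : IsPGroup p N := h7.of_equiv Subgroup.topEquiv
      have h9 := h8.center_nontrivial
      rw [KFacts.RgdLieCharP.center_eq_bot hc] at h9
      exact not_nontrivial _ h9
  have hP0 : Nodes.Reps.cj g' (PJ cs hC T X J') ≠ ⊥ := by
    intro h3
    have h4 := le_bot_iff.1 (h3 ▸ hV.trans h1)
    apply hVne hJ
    rw [← cj_inv_cj g (VJ cs hC X J), h4]
    exact Subgroup.map_bot _
  have hPK := par_le h hNs hNA hNΓ hx hP0 hP1 h2
  have hU0 : MaxP p (RGD.Sup X (RGD.Pos cs hC)) := by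
    refine ⟨R.isPGroup_Upos, fun P hP h1 => ?_⟩
    exact KFacts.RgdEx.eq_U R h1 (by rw [hGG]; exact le_top) hP
  have hUP : Nodes.Reps.cj g' (RGD.Sup X (RGD.Pos cs hC)) ≤ (H284.cj x A).subgroupOf N := by
    refine le_trans (cj_mono g' ?_) hPK
    exact le_trans (RGD.Sup_le fun x hx => RGD.X_le_B hx.1 hx.2) B_le_PJ
  obtain ⟨k, hk, e⟩ := MaxP.exists_ge (hU0.cj g') hUP ((isPGroup_VJ R J).map (MulAut.conj g).toMonoidHom) hV
  refine ⟨k * g', ?_, ?_⟩
  · rw [cj_mul]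
    exact e
  · rw [cj_mul]
    have h6 := cj_mono k hUP
    rwa [cj_eq_of_mem hk] at h6

end ept

end Cfsg.Agent.H833.TenFive
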